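import Groth.Agent.SkySumLib.Cohom
import Groth.Agent.EtSliceLib.Hpull
import Groth.Agent.DerLiftLib.Main
import Groth.Prelude.Def_DCoh2
import Groth.Agent.S0171

/-!
# Complexes with cohomology supported in closed points
-/

set_option autoImplicit false
set_option linter.unusedSectionVars false
set_option linter.style.haveILetI false
set_option backward.isDefEq.respectTransparency false
set_option backward.isDefEq.respectTransparency.types false
set_option synthInstance.maxHeartbeats 400000
set_option maxHeartbeats 2000000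

universe u

open CategoryTheory CategoryTheory.Limits CategoryTheory.Abelian AlgebraicGeometry Opposite
open Groth.Agent.EtShLib

noncomputable section

namespace EtClosedPtLib

/-- The separating family. -/
abbrev Aff (X : Scheme.{u}) : Type (u + 1) := {W : X.Etale // IsAffine W.left}

theorem hom_eq_zero {X : Scheme.{u}} {M N : EtCoh.Ab X} (f : M ⟶ N)
    (h : ∀ (W : Aff X) (g : EtSliceLib.free W.1 ⟶ M), g ≫ f = 0) : f = 0 := by
  apply Sheaf.hom_ext
  ext ⟨V⟩ s
  refine res_ext N _ _ fun y => ?_
  obtain ⟨W, g, w, hw, hW⟩ := SkySumLib.exists_affine V y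
  refine ⟨W, g, ⟨w, hw⟩, ?_⟩
  rw [← NatTrans.naturality_apply]
  have h1 := congrArg (fun t => t.hom.app (op W) (EtSliceLib.gen W))
    (h ⟨W, hW⟩ (EtSliceLib.desc W (M.obj.map g.op s)))
  change f.hom.app (op W) ((EtSliceLib.desc W (M.obj.map g.op s)).hom.app (op W) (EtSliceLib.gen W)) = 0 at h1
  rw [EtSliceLib.desc_gen] at h1
  exact h1.trans (map_zero _).symm

variable {K : Type u} [Field K] [IsSepClosed K] {X : Scheme.{u}} (a : X ⟶ Spec (CommRingCat.of K))
  [LocallyOfFiniteType a] [QuasiCompact a]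

include a

theorem acy_const {M : EtCoh.Ab X} (hM : SkySumLib.SuppClosed M) :
    DerLiftLib.Acy.{u + 1} (EtCoh.const X ℤ) M := fun q hq => by
  haveI : IsLocallyNoetherian X := LocallyOfFiniteType.isLocallyNoetherian a
  haveI : CompactSpace X := QuasiCompact.compactSpace_of_compactSpace a
  haveI : IsNoetherian X := { }
  exact SkySumLib.subsingleton_H hM (fun x => SkySumLib.isSepClosed_residueField a x.1 x.2) q hq

theorem acy_free {M : EtCoh.Ab X} (hM : SkySumLib.SuppClosed M) (W : X.Etale) (hW : IsAffine W.left) :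
    DerLiftLib.Acy.{u + 1} (EtSliceLib.free W) M := fun q hq => by
  haveI := hW
  haveI : AlgebraicGeometry.Etale W.hom := W.prop
  haveI : QuasiCompact (W.hom ≫ a) := by
    rw [HasAffineProperty.iff_of_isAffine (P := @QuasiCompact)]
    exact inferInstanceAs (CompactSpace ↥W.left)
  haveI : LocallyOfFiniteType (W.hom ≫ a) := inferInstance
  have hs : SkySumLib.SuppClosed ((EtCoh.pull W.hom).obj M) := fun Ω _ _ ξ hξ => by
    refine (hM Ω (ξ ≫ W.hom) fun hc => hξ ?_).of_iso
      ((stalkPull W.hom ξ AddCommGrpCat.{u + 1}).app M).symm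
    refine isClosed_of_closure_subset fun w hw => ?_
    have hsp : ξ.base default ⤳ w := specializes_iff_mem_closure.2 hw
    have hh : W.hom.base w = W.hom.base (ξ.base default) :=
      hc.closure_subset_iff.2 subset_rfl (specializes_iff_mem_closure.1 (hsp.map W.hom.continuous))
    exact (eq_of_specializes_of_etale hsp hh.symm).symm
  haveI : Subsingleton (EtCoh.H W.left ((EtCoh.pull W.hom).obj M) q) := by
    haveI : IsLocallyNoetherian W.left := LocallyOfFiniteType.isLocallyNoetherian (W.hom ≫ a)
    haveI : CompactSpace ↥W.left := inferInstance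
    haveI : IsNoetherian W.left := { }
    haveI : IsNoetherian ((𝟭 Scheme.{u}).obj W.left) := ‹IsNoetherian W.left›
    exact SkySumLib.subsingleton_H hs (fun x => SkySumLib.isSepClosed_residueField (W.hom ≫ a) x.1 x.2) q hq
  exact (EtSliceLib.psi_bijective W q M).1.subsingleton

omit a

theorem isZero_of_const_point {κ : Type u} [Field κ] [IsSepClosed κ] (G : EtCoh.Ab (Spec (CommRingCat.of κ)))
    (h : ∀ m : EtCoh.const (Spec (CommRingCat.of κ)) ℤ ⟶ G, m = 0) : IsZero G := by
  have hΓ : ∀ s : (EtCore.gsec (Spec (CommRingCat.of κ))).obj G, s = 0 := fun s => by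
    have h1 := EtSliceLib.gsec_map_symm (EtSliceLib.intHom s)
    rw [EtSliceLib.intHom_one, h (((EtCore.constAdj _).homEquiv _ _).symm (EtSliceLib.intHom s))] at h1
    exact h1.symm
  rw [IsZero.iff_id_eq_zero]
  apply Sheaf.hom_ext
  ext ⟨V⟩ s
  refine res_ext G _ _ fun y => ?_
  haveI : AlgebraicGeometry.Etale V.hom := V.prop
  obtain ⟨l, hl, hly⟩ := Scheme.exists_fac_of_etale_of_isSepClosed V.hom (𝟙 (Spec (CommRingCat.of κ))) y
    (Subsingleton.elim (α := ↥(Spec (CommRingCat.of κ))) _ _)
  let g : EtCoh.top (Spec (CommRingCat.of κ)) ⟶ V := MorphismProperty.Over.homMk l hl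
  refine ⟨EtCoh.top _, g, ⟨(default : ↥(Spec (CommRingCat.of κ))), hly⟩, ?_⟩
  exact (hΓ _).trans (hΓ _).symm

include a

theorem isZero_of_const {M : EtCoh.Ab X} (hM : SkySumLib.SuppClosed M)
    (h : ∀ m : EtCoh.const X ℤ ⟶ M, m = 0) : IsZero M := by
  haveI : IsLocallyNoetherian X := LocallyOfFiniteType.isLocallyNoetherian a
  haveI : CompactSpace X := QuasiCompact.compactSpace_of_compactSpace a
  haveI : IsNoetherian X := { }
  haveI := SkySumLib.isIso_toSum hM
  have hu : ∀ x : SkySumLib.Pt X, SkySumLib.ux M x = 0 := fun x => by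
    haveI := SkySumLib.isSepClosed_residueField a x.1 x.2
    haveI : IsSepClosed (X.residueField x.1) := SkySumLib.isSepClosed_residueField a x.1 x.2
    have hK : ∀ m : EtCoh.const X ℤ ⟶ SkySumLib.K M x, m = 0 := fun m => by
      have h1 := h (m ≫ Sigma.ι (fun x : SkySumLib.Pt X => SkySumLib.K M x) x ≫ inv (SkySumLib.toSum hM))
      rw [← Category.assoc, IsIso.comp_inv_eq, zero_comp] at h1
      have h2 := congrArg (· ≫ SkySumLib.κ M ≫ Pi.π (fun x : SkySumLib.Pt X => SkySumLib.K M x) x) h1
      simp only [zero_comp, Category.assoc] at h2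
      erw [DivSeqLib.ι_sigmaToProd_self (fun x : SkySumLib.Pt X => SkySumLib.K M x) x, Category.comp_id] at h2
      exact h2
    have hz : IsZero ((EtCoh.pull (SkySumLib.ix x)).obj M) := isZero_of_const_point (κ := X.residueField x.1) _ fun m => by
      let adj := EtCoh.pullPushAdj (SkySumLib.ix x)
      have h3 := hK (adj.homEquiv _ _ ((EtCore.pullConst (SkySumLib.ix x) ℤ).hom ≫ m))
      have h4 := congrArg (adj.homEquiv _ _).symm h3
      rw [Equiv.symm_apply_apply, Adjunction.homEquiv_counit] at h4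
      simp only [Functor.map_zero, zero_comp] at h4
      rw [← cancel_epi (EtCore.pullConst (SkySumLib.ix x) ℤ).hom, comp_zero]
      exact h4
    show (EtCoh.pullPushAdj (SkySumLib.ix x)).unit.app M = 0
    haveI : (EtCoh.push (SkySumLib.ix x)).IsRightAdjoint := ⟨_, ⟨EtCoh.pullPushAdj _⟩⟩
    exact ((EtCoh.push (SkySumLib.ix x)).map_isZero hz).eq_of_tgt _ _
  haveI := SkySumLib.mono_toProd hM
  rw [IsZero.iff_id_eq_zero, ← cancel_mono (SkySumLib.toProd M)]
  refine Pi.hom_ext _ _ fun x => ?_
  simp only [SkySumLib.toProd, Category.id_comp, Category.assoc, Pi.lift_π, zero_comp]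
  exact hu x

end EtClosedPtLib
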